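/-
helper73: project STEINBERG phase 3c (S2399, helper60), module P-[Z] of `Lib/Helper60/ST3_MODULES.md`:
the root elements `X_s(t)` lift to elements `z s t` of order dividing `p` satisfying (R1).
-/
import Cfsg.Agent.Lib.Helper60.St3Defs

set_option autoImplicit false

namespace Cfsg.Agent.Lib.Helper73.St3

open Cfsg.Lie Cfsg.Agent.Lib.Helper35.St Cfsg.Agent.Lib.Helper60.St3

universe u v w

variable {D : ChevalleyDatum} {K : Type u} [Field K] {Γ : Type v} [Group Γ] {E : Type w} [Group E]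

theorem pz_X_zero (M : Model D K Γ) {s : ℕ} (hs : s < D.nroots) : M.X s 0 = 1 := by
  have h := M.add s hs 0 0
  rw [add_zero] at h
  exact mul_eq_left.mp h

theorem pz_X_pow (M : Model D K Γ) {s : ℕ} (hs : s < D.nroots) (t : K) (k : ℕ) :
    M.X s t ^ k = M.X s ((k : K) * t) := by
  induction k with
  | zero => rw [pow_zero, Nat.cast_zero, zero_mul, pz_X_zero M hs]
  | succ k ih =>
    rw [pow_succ, ih, M.add s hs]
    congr 1
    push_cast
    ring

theorem pz_X_pow_char (p : ℕ) [CharP K p] (M : Model D K Γ) {s : ℕ} (hs : s < D.nroots) (t : K) :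
    M.X s t ^ p = 1 := by
  rw [pz_X_pow M hs, CharP.cast_eq_zero, zero_mul, pz_X_zero M hs]

/-- the root subgroup `{X_s(t)}` -/
def pzRoot (M : Model D K Γ) {s : ℕ} (hs : s < D.nroots) : Subgroup Γ where
  carrier := {g | ∃ t : K, g = M.X s t}
  mul_mem' := by
    rintro a b ⟨t, rfl⟩ ⟨u, rfl⟩
    exact ⟨t + u, M.add s hs t u⟩
  one_mem' := ⟨0, (pz_X_zero M hs).symm⟩
  inv_mem' := by
    rintro a ⟨t, rfl⟩
    refine ⟨-t, ?_⟩
    rw [inv_eq_iff_mul_eq_one, M.add s hs, add_neg_cancel, pz_X_zero M hs]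

theorem pzRoot_isPGroup (p : ℕ) [Fact p.Prime] [CharP K p] (M : Model D K Γ) {s : ℕ}
    (hs : s < D.nroots) : IsPGroup p ↥(pzRoot M hs) := by
  rintro ⟨g, t, rfl⟩
  refine ⟨1, ?_⟩
  apply Subtype.ext
  rw [pow_one, Subgroup.coe_pow, Subgroup.coe_one]
  exact pz_X_pow_char p M hs t

/-- P-[Z]. -/
theorem exists_pLift [Finite E] (p : ℕ) [Fact p.Prime] [CharP K p] (M : Model D K Γ) (ψ : E →* Γ)
    (hS : ∀ P : Subgroup Γ, IsPGroup p P → ∃ S : Subgroup E, (∀ e ∈ S, ψ e ∈ P) ∧ (∀ g ∈ P, ∃ e ∈ S, ψ e = g) ∧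
      (∀ e ∈ S, ψ e = 1 → e = 1) ∧ ∀ e : E, ψ e ∈ P → e ^ p = 1 → e ∈ S) :
    ∃ z : ℕ → K → E, (∀ s, s < D.nroots → ∀ t : K, ψ (z s t) = M.X s t) ∧
      (∀ s, s < D.nroots → ∀ t : K, z s t ^ p = 1) ∧
      (∀ s, s < D.nroots → ∀ t u : K, z s t * z s u = z s (t + u)) := by
  classical
  -- for each root a subgroup `S s` and lifts
  have hex : ∀ s, s < D.nroots → ∃ S : Subgroup E, (∀ e ∈ S, ψ e = 1 → e = 1) ∧
      ∃ f : K → E, ∀ t : K, f t ∈ S ∧ ψ (f t) = M.X s t := by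
    intro s hs
    obtain ⟨S, -, h2, h3, -⟩ := hS (pzRoot M hs) (pzRoot_isPGroup p M hs)
    refine ⟨S, h3, ?_⟩
    have : ∀ t : K, ∃ e, e ∈ S ∧ ψ e = M.X s t := by
      intro t
      obtain ⟨e, he, hψ⟩ := h2 (M.X s t) ⟨t, rfl⟩
      exact ⟨e, he, hψ⟩
    choose f hf using this
    exact ⟨f, hf⟩
  choose S hS3 f hf using hex
  refine ⟨fun s t => if hs : s < D.nroots then f s hs t else 1, ?_, ?_, ?_⟩
  · intro s hs t
    simp only [dif_pos hs]
    exact (hf s hs t).2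
  · intro s hs t
    simp only [dif_pos hs]
    apply hS3 s hs _ ((S s hs).pow_mem (hf s hs t).1 p)
    rw [map_pow, (hf s hs t).2]
    exact pz_X_pow_char p M hs t
  · intro s hs t u
    simp only [dif_pos hs]
    have hmem : f s hs t * f s hs u * (f s hs (t + u))⁻¹ ∈ S s hs :=
      (S s hs).mul_mem ((S s hs).mul_mem (hf s hs t).1 (hf s hs u).1)
        ((S s hs).inv_mem (hf s hs (t + u)).1)
    have h1 := hS3 s hs _ hmem (by
      rw [map_mul, map_mul, map_inv, (hf s hs t).2, (hf s hs u).2, (hf s hs (t + u)).2,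
        M.add s hs, mul_inv_cancel])
    exact mul_inv_eq_one.mp h1

end Cfsg.Agent.Lib.Helper73.St3
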